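import Groth.Agent.Lib.TensorGen.Det
import Groth.Agent.Lib.AffHom.Basic
import Groth.Agent.Lib.VA.Tensor
import Groth.Agent.Lib.Mero.DivTensor
import Groth.Agent.Lib.RankTwo12.Wedge
import Groth.Prelude.Def_ExtPow2

/-!
# The determinant of a sum of two invertible modules
-/

set_option autoImplicit false
set_option linter.all false
set_option backward.isDefEq.respectTransparency false

universe u

open CategoryTheory CategoryTheory.Limits AlgebraicGeometry TopologicalSpace Opposite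
open GrothLib.InvExt (mres IsGen)
open GrothLib.FinCov (IsFrame)
open GrothLib.VA (tm)
open GrothLib.RankTwo12 (appL app_mres)

noncomputable section

namespace GrothLib.DetSum12

variable {X : Scheme.{u}} {E A B : X.Modules}

/-- `(x, y) ↦ pA x ⊗ pB y`. -/
def pairL (pA : E ⟶ A) (pB : E ⟶ B) (V : X.Opens) :
    Γ(E, V) →ₗ[Γ(X, V)] Γ(E, V) →ₗ[Γ(X, V)] Γ(CohB1.tensorMod A B, V) :=
  LinearMap.mk₂ Γ(X, V) (fun a b => tm (appL pA V a) (appL pB V b))
    (fun a a' b => by rw [map_add, VA.tm_add_left])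
    (fun r a b => by rw [map_smul, VA.tm_smul_left])
    (fun a b b' => by rw [map_add, VA.tm_add_right])
    (fun r a b => by rw [map_smul, VA.tm_smul_right])

/-- `(x, y) ↦ pA x ⊗ pB y - pA y ⊗ pB x`. -/
def altL (pA : E ⟶ A) (pB : E ⟶ B) (V : X.Opens) :
    Γ(E, V) [⋀^Fin 2]→ₗ[Γ(X, V)] Γ(CohB1.tensorMod A B, V) where
  toFun v := pairL pA pB V (v 0) (v 1) - pairL pA pB V (v 1) (v 0)
  map_update_add' v i a b := by
    fin_cases i <;> simp [Function.update_of_ne, map_add] <;> abel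
  map_update_smul' v i c a := by
    fin_cases i <;> simp [Function.update_of_ne, smul_sub]
  map_eq_zero_of_eq' v i j h hij := by
    fin_cases i <;> fin_cases j <;> simp_all

theorem altL_apply (pA : E ⟶ A) (pB : E ⟶ B) (V : X.Opens) (v : Fin 2 → Γ(E, V)) :
    altL pA pB V v = tm (pA.app V (v 0)) (pB.app V (v 1)) - tm (pA.app V (v 1)) (pB.app V (v 0)) := rfl

theorem mres_altL (pA : E ⟶ A) (pB : E ⟶ B) {U V : X.Opens} (h : V ≤ U) (v : Fin 2 → Γ(E, U)) :
    mres (CohB1.tensorMod A B) h (altL pA pB U v) = altL pA pB V fun i => mres E h (v i) := by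
  rw [altL_apply, altL_apply]
  refine (map_sub ((CohB1.tensorMod A B).presheaf.map (homOfLE h).op).hom _ _).trans ?_
  show mres _ h (tm _ _) - mres _ h (tm _ _) = _
  rw [VA.mres_tm, VA.mres_tm, app_mres, app_mres, app_mres, app_mres]

theorem app_smul' {M N : X.Modules} (φ : M ⟶ N) {V : X.Opens} (c : Γ(X, V)) (x : Γ(M, V)) :
    φ.app V (c • x) = c • φ.app V x := Scheme.Modules.Hom.app_smul φ c x

/-- The sections coming from generators of the summands form a frame. -/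
theorem isFrame_pair (pA : E ⟶ A) (pB : E ⟶ B) (iA : A ⟶ E) (iB : B ⟶ E) (hA : iA ≫ pA = 𝟙 A) (hB : iB ≫ pB = 𝟙 B)
    (hAB : iA ≫ pB = 0) (hBA : iB ≫ pA = 0) (htot : pA ≫ iA + pB ≫ iB = 𝟙 E) {V : X.Opens} {a : Γ(A, V)}
    {b : Γ(B, V)} (ha : IsGen A V a) (hb : IsGen B V b) :
    IsFrame E V ![iA.app V a, iB.app V b] := by
  intro T hT
  constructor
  · intro c d hcd
    simp only [Fin.sum_univ_two, Matrix.cons_val_zero, Matrix.cons_val_one] at hcd
    have e1 := congrArg (pA.app T) hcd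
    have e2 := congrArg (pB.app T) hcd
    simp only [map_add, app_smul', ← app_mres] at e1 e2
    change c 0 • (iA ≫ pA).app T (mres A hT a) + c 1 • (iB ≫ pA).app T (mres B hT b) =
      d 0 • (iA ≫ pA).app T (mres A hT a) + d 1 • (iB ≫ pA).app T (mres B hT b) at e1
    change c 0 • (iA ≫ pB).app T (mres A hT a) + c 1 • (iB ≫ pB).app T (mres B hT b) =
      d 0 • (iA ≫ pB).app T (mres A hT a) + d 1 • (iB ≫ pB).app T (mres B hT b) at e2
    rw [hA, hBA] at e1
    rw [hAB, hB] at e2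
    change c 0 • mres A hT a + c 1 • (0 : Γ(A, T)) = d 0 • mres A hT a + d 1 • (0 : Γ(A, T)) at e1
    change c 0 • (0 : Γ(B, T)) + c 1 • mres B hT b = d 0 • (0 : Γ(B, T)) + d 1 • mres B hT b at e2
    simp only [smul_zero, add_zero, zero_add] at e1 e2
    funext i
    fin_cases i
    · exact ha.smul_left_injective hT e1
    · exact hb.smul_left_injective hT e2
  · intro m
    obtain ⟨c0, hc0⟩ := ha.exists_smul_eq hT (pA.app T m)
    obtain ⟨c1, hc1⟩ := hb.exists_smul_eq hT (pB.app T m)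
    refine ⟨![c0, c1], ?_⟩
    simp only [Fin.sum_univ_two, Matrix.cons_val_zero, Matrix.cons_val_one, ← app_mres, ← app_smul', ← hc0, ← hc1]
    exact ConcreteCategory.congr_hom (congrArg (fun f => f.app T) htot) m

/-- The determinant of the sum of two invertible modules is their tensor product. -/
theorem nonempty_det_two (pA : E ⟶ A) (pB : E ⟶ B) (iA : A ⟶ E) (iB : B ⟶ E) (hA : iA ≫ pA = 𝟙 A)
    (hB : iB ≫ pB = 𝟙 B) (hAB : iA ≫ pB = 0) (hBA : iB ≫ pA = 0) (htot : pA ≫ iA + pB ≫ iB = 𝟙 E)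
    (hAi : PicF.IsInvertible A) (hBi : PicF.IsInvertible B) {L : X.Modules} (hL : ExtPow.IsExtPow 2 E L) :
    Nonempty (L ≅ CohB1.tensorMod A B) := by
  obtain ⟨φ, hφ⟩ := hL
  let φ₁ : ∀ U : X.affineOpens, Γ(L, U.1) ≃ₗ[Γ(X, U.1)] ↥(⋀[Γ(X, U.1)]^2 Γ(E, U.1)) := φ
  have hφ₁ : ∀ (U V : X.affineOpens) (h : V.1 ≤ U.1) (e : Fin 2 → Γ(E, U.1)),
      mres L h ((φ₁ U).symm (exteriorPower.ιMulti _ 2 e)) =
        (φ₁ V).symm (exteriorPower.ιMulti _ 2 fun j => mres E h (e j)) := hφ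
  obtain ⟨γ, hγ⟩ := AffHom.exists_hom (M := L) (N := CohB1.tensorMod A B)
    (fun U => exteriorPower.alternatingMapLinearEquiv (altL pA pB U.1) ∘ₗ (φ₁ U).toLinearMap) fun U V h m => by
    obtain ⟨z, rfl⟩ := (φ₁ U).symm.surjective m
    have hz : z ∈ Submodule.span Γ(X, U.1) (Set.range (exteriorPower.ιMulti Γ(X, U.1) 2 (M := Γ(E, U.1)))) := by
      rw [exteriorPower.ιMulti_span]; exact Submodule.mem_top
    induction hz using Submodule.span_induction with
    | mem y hy =>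
      obtain ⟨v, rfl⟩ := hy
      show mres _ h (exteriorPower.alternatingMapLinearEquiv (altL pA pB U.1) (φ₁ U ((φ₁ U).symm _))) =
        exteriorPower.alternatingMapLinearEquiv (altL pA pB V.1) (φ₁ V (mres L h _))
      rw [hφ₁ U V h v, LinearEquiv.apply_symm_apply, LinearEquiv.apply_symm_apply,
        exteriorPower.alternatingMapLinearEquiv_apply_ιMulti,
        exteriorPower.alternatingMapLinearEquiv_apply_ιMulti, mres_altL]
    | zero => simp
    | add a b _ _ ha hb => simp only [map_add, ha, hb]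
    | smul c a _ ha => simp only [map_smul, Scheme.Modules.map_smul, ha]
  suffices IsIso γ from ⟨asIso γ⟩
  refine Mero.isIso_of_gens γ fun x => ?_
  obtain ⟨Va, a, hxa, ha⟩ := InvExt.exists_gen_nhd hAi x
  obtain ⟨Vb, b, hxb, hb⟩ := InvExt.exists_gen_nhd hBi x
  obtain ⟨W, hW, hxW, hWle⟩ := exists_isAffineOpen_mem_and_subset (x := x) (U := Va ⊓ Vb) ⟨hxa, hxb⟩
  have ha' : IsGen A W (mres A (hWle.trans inf_le_left) a) := ha.restrict _
  have hb' : IsGen B W (mres B (hWle.trans inf_le_right) b) := hb.restrict _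
  refine ⟨W, _, hxW, TensorGen.isGen_wedge hφ₁ (U := ⟨W, hW⟩) (isFrame_pair pA pB iA iB hA hB hAB hBA htot ha' hb'), ?_⟩
  rw [hγ ⟨W, hW⟩]
  show IsGen _ _ (exteriorPower.alternatingMapLinearEquiv (altL pA pB W) (φ₁ ⟨W, hW⟩ ((φ₁ ⟨W, hW⟩).symm _)))
  rw [LinearEquiv.apply_symm_apply, exteriorPower.alternatingMapLinearEquiv_apply_ιMulti, altL_apply]
  simp only [Matrix.cons_val_zero, Matrix.cons_val_one]
  change IsGen _ _ (tm ((iA ≫ pA).app W _) ((iB ≫ pB).app W _) - tm ((iB ≫ pA).app W _) ((iA ≫ pB).app W _))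
  rw [hA, hB, hAB, hBA]
  change IsGen _ _ (tm (mres A _ a) (mres B _ b) - tm (0 : Γ(A, W)) (0 : Γ(B, W)))
  have h0 : tm (0 : Γ(A, W)) (0 : Γ(B, W)) = 0 := by
    have := VA.tm_smul_left (0 : Γ(X, W)) (0 : Γ(A, W)) (0 : Γ(B, W))
    rwa [zero_smul, zero_smul] at this
  rw [h0, sub_zero]
  exact VA.isGen_tm ha' hb'

/-- The determinant of the coproduct of two copies of an invertible module. -/
theorem nonempty_det_sigma {A : X.Modules} (hAi : PicF.IsInvertible A) {L : X.Modules}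
    (hL : ExtPow.IsExtPow 2 (∐ fun _ : Fin 2 => A) L) : Nonempty (L ≅ CohB1.tensorMod A A) := by
  let f : Fin 2 → X.Modules := fun _ => A
  refine nonempty_det_two (E := ∐ f) (Sigma.desc fun l => if l = 0 then 𝟙 A else 0)
    (Sigma.desc fun l => if l = 1 then 𝟙 A else 0) (Sigma.ι f 0) (Sigma.ι f 1) ?_ ?_ ?_ ?_ ?_ hAi hAi hL
  · simp [f]
  · simp [f]
  · simp [f]
  · simp [f]
  · refine Sigma.hom_ext _ _ fun l => ?_
    fin_cases l <;> simp [f, Preadditive.comp_add]

end GrothLib.DetSum12
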